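import Groth.Agent.ValPDLib.Basic

/-! The local ring of a flat finitely presented algebra over a valuation ring, over the localised base. -/

set_option autoImplicit false
set_option linter.unusedSectionVars false

universe u

open IsLocalRing CommAlgDim

namespace ValPDLib

theorem setup (V : Type u) [CommRing V] [IsDomain V] [ValuationRing V]
    (B : Type u) [CommRing B] [Algebra V B] [Module.Flat V B] [Algebra.FinitePresentation V B]
    (q : Ideal B) [q.IsPrime] (n : ℕ)
    (hreg : IsRegularLocalRing (Localization.AtPrime q ⧸ Ideal.map (algebraMap V (Localization.AtPrime q)) (Ideal.comap (algebraMap V B) q)))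
    (hn : ringKrullDim (Localization.AtPrime q ⧸ Ideal.map (algebraMap V (Localization.AtPrime q)) (Ideal.comap (algebraMap V B) q)) = n)
    (M : Type u) [AddCommGroup M] [Module (Localization.AtPrime q) M] :
    (∀ [Module.Finite (Localization.AtPrime q) M] [Module V M] [IsScalarTower V (Localization.AtPrime q) M]
        [Module.Flat V M], PDLT (Localization.AtPrime q) M (n + 1)) ∧
    (∀ [Module.FinitePresentation (Localization.AtPrime q) M], PDLT (Localization.AtPrime q) M (n + 2)) ∧
    (∀ [Module.FinitePresentation (Localization.AtPrime q) M] [Module.IsReflexive (Localization.AtPrime q) M],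
        PDLT (Localization.AtPrime q) M (n - 1 + 1)) := by
  let A := Localization.AtPrime q
  let p := q.comap (algebraMap V B)
  let W := Localization.AtPrime p
  haveI : IsDomain W := IsLocalization.isDomain_localization p.primeCompl_le_nonZeroDivisors
  haveI : ValuationRing W := by
    refine (ValuationRing.iff_dvd_total).2 ⟨fun a b => ?_⟩
    obtain ⟨⟨x, s⟩, hx⟩ := IsLocalization.surj p.primeCompl a
    obtain ⟨⟨y, t⟩, hy⟩ := IsLocalization.surj p.primeCompl b
    have ha : Associated a (algebraMap V W x) :=
      (associated_mul_unit_right a _ (IsLocalization.map_units W s)).trans (Associated.of_eq hx)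
    have hb : Associated b (algebraMap V W y) :=
      (associated_mul_unit_right b _ (IsLocalization.map_units W t)).trans (Associated.of_eq hy)
    rcases ValuationRing.dvd_total x y with h | h
    · exact Or.inl ((ha.dvd.trans (map_dvd _ h)).trans hb.symm.dvd)
    · exact Or.inr ((hb.dvd.trans (map_dvd _ h)).trans ha.symm.dvd)
  have hu : ∀ y : p.primeCompl, IsUnit (algebraMap V A y) := fun y => by
    rw [IsScalarTower.algebraMap_apply V B A]
    exact IsLocalization.map_units A (⟨algebraMap V B y, y.2⟩ : q.primeCompl)
  letI : Algebra W A := (IsLocalization.lift (M := p.primeCompl) hu).toAlgebra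
  haveI : IsScalarTower V W A := IsScalarTower.of_algebraMap_eq fun x => (IsLocalization.lift_eq hu x).symm
  haveI : Algebra.EssFiniteType B A := Algebra.EssFiniteType.of_isLocalization A q.primeCompl
  haveI : Algebra.EssFiniteType V A := Algebra.EssFiniteType.comp V B A
  haveI : Algebra.EssFiniteType W A := Algebra.EssFiniteType.of_comp V W A
  haveI : IsLocalHom (algebraMap W A) := ⟨fun w hw => by
    obtain ⟨⟨v, s⟩, rfl⟩ := IsLocalization.mk'_surjective p.primeCompl w |>.imp fun _ h => h
    refine (IsLocalization.AtPrime.isUnit_mk'_iff W p v s).2 fun hv => ?_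
    have h1 : algebraMap W A (IsLocalization.mk' W v s) * algebraMap V A s = algebraMap V A v := by
      rw [IsScalarTower.algebraMap_apply V W A, ← map_mul, IsLocalization.mk'_spec,
        ← IsScalarTower.algebraMap_apply V W A]
    have h2 : IsUnit (algebraMap V A v) := h1 ▸ hw.mul (hu s)
    rw [IsScalarTower.algebraMap_apply V B A] at h2
    exact (IsLocalization.AtPrime.isUnit_to_map_iff A q _).1 h2 hv⟩
  haveI : Module.Flat V A := Module.Flat.trans V B A
  have tf : ∀ {N : Type u} [AddCommGroup N] [Module V N] [Module W N] [IsScalarTower V W N],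
      TorsFree V N → TorsFree W N := fun {N} _ _ _ _ h c m hc hm => by
    obtain ⟨⟨v, s⟩, rfl⟩ := IsLocalization.mk'_surjective p.primeCompl c |>.imp fun _ h => h
    dsimp only at hc hm
    refine h v m (fun hv => hc ?_) ?_
    · rw [hv, IsLocalization.mk'_zero]
    · rw [← IsScalarTower.algebraMap_smul W v m, ← IsLocalization.mk'_spec W v s, mul_comm, mul_smul, hm, smul_zero]
  have hJ : (maximalIdeal W).map (algebraMap W A) = p.map (algebraMap V A) := by
    rw [← Localization.AtPrime.map_eq_maximalIdeal, Ideal.map_map, ← IsScalarTower.algebraMap_eq]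
  haveI : IsRegularLocalRing (A ⧸ (maximalIdeal W).map (algebraMap W A)) := by rw [hJ]; exact hreg
  have hn' : ringKrullDim (A ⧸ (maximalIdeal W).map (algebraMap W A)) = n := by rw [hJ]; exact hn
  have hA : TorsFree W A := tf (TorsFree.of_flat (V := V) (M := A))
  refine ⟨?_, ?_, ?_⟩
  · intro _ _ _ _
    letI : Module W M := Module.compHom M (algebraMap W A)
    haveI : IsScalarTower W A M := IsScalarTower.of_algebraMap_smul fun _ _ => rfl
    haveI : IsScalarTower V W M := IsScalarTower.of_algebraMap_smul fun v m => by
      show algebraMap W A (algebraMap V W v) • m = v • m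
      rw [← IsScalarTower.algebraMap_apply, IsScalarTower.algebraMap_smul]
    exact pdlt_of_torsFree (V := W) (A := A) n hn' hA (tf (TorsFree.of_flat (V := V) (M := M)))
  · intro _
    exact pdlt_succ (V := W) (A := A) n hn' hA
  · intro _ _
    exact pdlt_of_reflexive (V := W) (A := A) n hn' hA

end ValPDLib
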