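import Groth.Agent.CommAlgDim.GlobalDim
import Groth.Agent.RzLib.FlatFPModule
import Mathlib

/-!
# Projective dimension over algebras essentially of finite type over a valuation ring
-/

set_option autoImplicit false
set_option linter.unusedSectionVars false

universe u

open IsLocalRing CommAlgDim
open scoped nonZeroDivisors

namespace ValPDLib

variable {V : Type u} [CommRing V] [IsDomain V] [ValuationRing V] {A : Type u} [CommRing A] [IsLocalRing A]
  [Algebra V A] [IsLocalHom (algebraMap V A)]

/-- `TorsFree`: no nonzero element of the base kills a nonzero element. -/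
def TorsFree (V : Type u) [CommRing V] (M : Type u) [AddCommGroup M] [Module V M] : Prop :=
  ∀ (c : V) (m : M), c ≠ 0 → c • m = 0 → m = 0

theorem TorsFree.of_flat {M : Type u} [AddCommGroup M] [Module V M] [Module.Flat V M] : TorsFree V M :=
  fun c m hc hm => (Module.Flat.isSMulRegular_of_nonZeroDivisors (M := M) (mem_nonZeroDivisors_of_ne_zero hc))
    (hm.trans (smul_zero c).symm)

theorem TorsFree.of_injective {M N : Type u} [AddCommGroup M] [Module V M] [AddCommGroup N] [Module V N]
    (h : TorsFree V N) (f : M →ₗ[V] N) (hf : Function.Injective f) : TorsFree V M := fun c m hc hm =>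
  hf (by rw [map_zero]; exact h c (f m) hc (by rw [← map_smul, hm, map_zero]))

theorem TorsFree.pi (h : TorsFree V A) (k : ℕ) : TorsFree V (Fin k → A) := fun c m hc hm =>
  funext fun i => h c (m i) hc (congrFun hm i)

/-- Elements of `𝔪_V M` are multiples of a single element of `𝔪_V`. -/
theorem exists_smul_eq {M : Type u} [AddCommGroup M] [Module A M] [Module V M] [IsScalarTower V A M] {y : M}
    (hy : y ∈ ((maximalIdeal V).map (algebraMap V A)) • (⊤ : Submodule A M)) :
    ∃ c ∈ maximalIdeal V, ∃ z : M, y = c • z := by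
  have key : ∀ {y₁ y₂ : M}, (∃ c ∈ maximalIdeal V, ∃ z : M, y₁ = c • z) →
      (∃ c ∈ maximalIdeal V, ∃ z : M, y₂ = c • z) → ∃ c ∈ maximalIdeal V, ∃ z : M, y₁ + y₂ = c • z := by
    rintro _ _ ⟨c, hc, z, rfl⟩ ⟨d, hd, w, rfl⟩
    rcases ValuationRing.dvd_total c d with ⟨e, rfl⟩ | ⟨e, rfl⟩
    · exact ⟨c, hc, z + e • w, by rw [smul_add, mul_smul]⟩
    · exact ⟨d, hd, e • z + w, by rw [smul_add, mul_smul]⟩
  refine Submodule.smul_induction_on hy (fun a ha m _ => ?_) fun _ _ => key
  induction ha using Submodule.span_induction generalizing m with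
  | mem a ha =>
    obtain ⟨c, hc, rfl⟩ := ha
    exact ⟨c, hc, m, (IsScalarTower.algebraMap_smul A c m)⟩
  | zero => exact ⟨0, zero_mem _, 0, by simp⟩
  | add a b _ _ iha ihb => rw [add_smul]; exact key (iha m trivial) (ihb m trivial)
  | smul b a _ iha => rw [smul_eq_mul, mul_comm, mul_smul]; exact iha (b • m) trivial

theorem jac_le : (maximalIdeal V).map (algebraMap V A) ≤ Ring.jacobson A := by
  rw [IsLocalRing.ringJacobson_eq_maximalIdeal]
  exact (((IsLocalRing.local_hom_TFAE (algebraMap V A)).out 0 2).1 ‹_›)

variable [Algebra.EssFiniteType V A]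

theorem fp_of_torsFree {M : Type u} [AddCommGroup M] [Module A M] [Module V M] [IsScalarTower V A M]
    [Module.Finite A M] (h : TorsFree V M) : Module.FinitePresentation A M :=
  RzLib.module_finitePresentation_of_essFiniteType (O := V) h

theorem pdlt_ker_of_projective {R F M : Type u} [CommRing R] [AddCommGroup F] [Module R F] [AddCommGroup M] [Module R M]
    [Module.Projective R F] (f : F →ₗ[R] M) (hf : Function.Surjective f) (h : PDLT R M 1) :
    PDLT R (LinearMap.ker f) 1 :=
  (pdlt_ker_iff f hf 0).1 (h.mono (Nat.le_succ 1))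

theorem pdlt_pred {R P Q : Type u} [CommRing R] [AddCommGroup P] [Module R P] [AddCommGroup Q] [Module R Q]
    [Module.Projective R P] [Module.Projective R Q] (ψ : P →ₗ[R] Q) (n : ℕ)
    (h : PDLT R (Q ⧸ LinearMap.range ψ) (n + 2)) : PDLT R (LinearMap.ker ψ) (n - 1 + 1) := by
  rw [pdlt_ker_iff _ (Submodule.mkQ_surjective _), Submodule.ker_mkQ] at h
  refine PDLT.of_equiv (LinearEquiv.ofEq _ _ (LinearMap.ker_rangeRestrict ψ)) ?_
  rcases n with _ | n
  · exact pdlt_ker_of_projective ψ.rangeRestrict ψ.surjective_rangeRestrict h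
  · exact (pdlt_ker_iff ψ.rangeRestrict ψ.surjective_rangeRestrict n).1 h

/-- Projective dimension is detected on the closed fibre. -/
theorem pdlt_of_fibre (hA : TorsFree V A) : ∀ (d : ℕ) (X : Type u) [AddCommGroup X] [Module A X] [Module V X]
    [IsScalarTower V A X] [Module.Finite A X], TorsFree V X →
      PDLT (A ⧸ (maximalIdeal V).map (algebraMap V A))
        (X ⧸ ((maximalIdeal V).map (algebraMap V A)) • (⊤ : Submodule A X)) (d + 1) → PDLT A X (d + 1) := by
  intro d
  induction d with
  | zero =>
    intro X _ _ _ _ _ hX h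
    let J := (maximalIdeal V).map (algebraMap V A)
    haveI : Nontrivial (A ⧸ J) := Ideal.Quotient.nontrivial_iff.2 fun hJ => by
      have h1 : J ≤ Ring.jacobson A := jac_le
      rw [hJ, IsLocalRing.ringJacobson_eq_maximalIdeal] at h1
      exact (maximalIdeal.isMaximal A).ne_top (top_le_iff.1 h1)
    haveI : IsLocalRing (A ⧸ J) := IsLocalRing.of_surjective' _ Ideal.Quotient.mk_surjective
    haveI : Module.Finite (A ⧸ J) (X ⧸ J • (⊤ : Submodule A X)) := Module.Finite.of_restrictScalars_finite A _ _
    haveI := pdlt_one_iff.1 h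
    haveI : Module.Free (A ⧸ J) (X ⧸ J • (⊤ : Submodule A X)) := Module.free_of_flat_of_isLocalRing
    let b := Module.finBasis (A ⧸ J) (X ⧸ J • (⊤ : Submodule A X))
    choose v hv using fun i => Submodule.Quotient.mk_surjective _ (b i)
    let f := Fintype.linearCombination A v
    have hf : Function.Surjective f := by
      rw [← LinearMap.range_eq_top]
      refine Submodule.eq_top_iff'.2 fun x => ?_
      have hle : (⊤ : Submodule A X) ≤ LinearMap.range f ⊔ J • ⊤ := fun y _ => by
        choose a ha using fun i => Ideal.Quotient.mk_surjective (b.repr (Submodule.Quotient.mk y) i)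
        refine Submodule.mem_sup.2 ⟨f a, ⟨a, rfl⟩, y - f a, ?_, add_sub_cancel _ _⟩
        rw [← Submodule.Quotient.mk_eq_zero, Submodule.Quotient.mk_sub, sub_eq_zero]
        refine (b.sum_repr _).symm.trans ?_
        rw [Fintype.linearCombination_apply, ← Submodule.mkQ_apply (p := J • (⊤ : Submodule A X)) (∑ i, a i • v i),
          map_sum]
        refine Finset.sum_congr rfl fun i _ => ?_
        rw [← ha i, map_smul, Submodule.mkQ_apply, hv i]
        rfl
      exact Submodule.le_of_le_smul_of_le_jacobson_bot Module.Finite.fg_top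
        (by rw [Ideal.jacobson_bot]; exact jac_le) hle trivial
    haveI := fp_of_torsFree (V := V) (A := A) hX
    have hfg : (LinearMap.ker f).FG := Module.FinitePresentation.fg_ker f hf
    have hle : LinearMap.ker f ≤ J • LinearMap.ker f := fun a (ha : f a = 0) => by
      have h0 : ∀ i, Ideal.Quotient.mk J (a i) = 0 := by
        refine Fintype.linearIndependent_iff.1 b.linearIndependent (fun i => Ideal.Quotient.mk J (a i)) ?_
        have h1 := congrArg (Submodule.mkQ (J • (⊤ : Submodule A X))) ha
        rw [map_zero, Fintype.linearCombination_apply, map_sum] at h1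
        rw [← h1]
        refine Finset.sum_congr rfl fun i _ => ?_
        rw [map_smul, Submodule.mkQ_apply, hv i]
        rfl
      have h2 : a ∈ J • (⊤ : Submodule A (Fin _ → A)) := by
        rw [pi_eq_sum_univ a]
        exact sum_mem fun i _ => Submodule.smul_mem_smul (Ideal.Quotient.eq_zero_iff_mem.1 (h0 i)) trivial
      obtain ⟨c, hc, z, rfl⟩ := exists_smul_eq h2
      rcases eq_or_ne c 0 with rfl | hc0
      · rw [zero_smul]; exact zero_mem _
      · have hz : f z = 0 := hX c (f z) hc0 (by rw [← LinearMap.map_smul_of_tower]; exact ha)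
        rw [← IsScalarTower.algebraMap_smul A c z]
        exact Submodule.smul_mem_smul (Ideal.mem_map_of_mem _ hc) hz
    have hk : LinearMap.ker f = ⊥ := Submodule.eq_bot_of_le_smul_of_le_jacobson_bot J _ hfg hle
      (by rw [Ideal.jacobson_bot]; exact jac_le)
    exact pdlt_one_iff.2 (Module.Projective.of_equiv (LinearEquiv.ofBijective f ⟨LinearMap.ker_eq_bot.1 hk, hf⟩))
  | succ d ih =>
    intro X _ _ _ _ _ hX h
    let J := (maximalIdeal V).map (algebraMap V A)
    obtain ⟨k, f, hf⟩ := Module.Finite.exists_fin' A X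
    haveI := fp_of_torsFree (V := V) (A := A) hX
    haveI : Module.Finite A (LinearMap.ker f) := Module.Finite.iff_fg.2 (Module.FinitePresentation.fg_ker f hf)
    have hmap : ∀ {M N : Type u} [AddCommGroup M] [Module A M] [AddCommGroup N] [Module A N] (g : M →ₗ[A] N),
        J • (⊤ : Submodule A M) ≤ (J • (⊤ : Submodule A N)).comap g := fun g =>
      Submodule.map_le_iff_le_comap.1 (by rw [Submodule.map_smul'']; exact Submodule.smul_mono le_rfl le_top)
    let g := (Submodule.mapQ _ _ f (hmap f)).extendScalarsOfSurjective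
      (R := A) (S := A ⧸ J) Ideal.Quotient.mk_surjective
    let j := (Submodule.mapQ _ _ (LinearMap.ker f).subtype (hmap _)).extendScalarsOfSurjective
      (R := A) (S := A ⧸ J) Ideal.Quotient.mk_surjective
    have hg : Function.Surjective g := fun y => by
      obtain ⟨y, rfl⟩ := Submodule.Quotient.mk_surjective _ y
      obtain ⟨x, rfl⟩ := hf y
      exact ⟨Submodule.Quotient.mk x, rfl⟩
    have hKF : TorsFree V (LinearMap.ker f) :=
      (hA.pi k).of_injective ((LinearMap.ker f).subtype.restrictScalars V) Subtype.val_injective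
    have hj : Function.Injective j := by
      rw [injective_iff_map_eq_zero]
      intro z hz
      obtain ⟨z, rfl⟩ := Submodule.Quotient.mk_surjective _ z
      obtain ⟨c, hc, w, hw⟩ := exists_smul_eq
        ((Submodule.Quotient.mk_eq_zero (J • (⊤ : Submodule A (Fin k → A)))).1 hz)
      rcases eq_or_ne c 0 with rfl | hc0
      · rw [zero_smul] at hw
        rw [show z = 0 from Subtype.ext hw]
        rfl
      · have hwK : f w = 0 := hX c (f w) hc0 (by
          rw [← LinearMap.map_smul_of_tower, ← hw]; exact z.2)
        refine (Submodule.Quotient.mk_eq_zero _).2 ?_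
        rw [show z = algebraMap V A c • ⟨w, hwK⟩ from Subtype.ext (hw.trans (IsScalarTower.algebraMap_smul A c w).symm)]
        exact Submodule.smul_mem_smul (Ideal.mem_map_of_mem _ hc) trivial
    have hex : LinearMap.range j = LinearMap.ker g := by
      refine le_antisymm ?_ fun z hz => ?_
      · rintro _ ⟨z, rfl⟩
        obtain ⟨z, rfl⟩ := Submodule.Quotient.mk_surjective _ z
        show (Submodule.Quotient.mk (f z.1) : X ⧸ J • ⊤) = 0
        rw [show f z.1 = 0 from z.2]
        rfl
      · obtain ⟨z, rfl⟩ := Submodule.Quotient.mk_surjective _ z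
        have hz' : f z ∈ J • (⊤ : Submodule A X) := (Submodule.Quotient.mk_eq_zero _).1 hz
        rw [← LinearMap.range_eq_top.2 hf, LinearMap.range_eq_map, ← Submodule.map_smul''] at hz'
        obtain ⟨y, hy, hyz⟩ := hz'
        refine ⟨Submodule.Quotient.mk ⟨z - y, by rw [LinearMap.mem_ker, map_sub, hyz, sub_self]⟩, ?_⟩
        show (Submodule.Quotient.mk (z - y) : (Fin k → A) ⧸ J • (⊤ : Submodule A _)) = Submodule.Quotient.mk z
        rw [Submodule.Quotient.mk_sub, (Submodule.Quotient.mk_eq_zero _).2 hy, sub_zero]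
    haveI : Module.Projective (A ⧸ J) ((Fin k → A) ⧸ J • (⊤ : Submodule A (Fin k → A))) :=
      Module.Projective.of_equiv (TensorProduct.quotTensorEquivQuotSMul (Fin k → A) J |>.extendScalarsOfSurjective
        (S := A ⧸ J) Ideal.Quotient.mk_surjective)
    rw [pdlt_ker_iff f hf]
    rw [pdlt_ker_iff g hg] at h
    exact ih _ hKF ((PDLT.congr ((LinearEquiv.ofInjective j hj).trans (LinearEquiv.ofEq _ _ hex))).2 h)

variable (n : ℕ) [IsRegularLocalRing (A ⧸ (maximalIdeal V).map (algebraMap V A))]

theorem pdlt_of_torsFree (hn : ringKrullDim (A ⧸ (maximalIdeal V).map (algebraMap V A)) = n) (hA : TorsFree V A)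
    {X : Type u} [AddCommGroup X] [Module A X] [Module V X] [IsScalarTower V A X] [Module.Finite A X]
    (hX : TorsFree V X) : PDLT A X (n + 1) := by
  haveI : Module.Finite (A ⧸ (maximalIdeal V).map (algebraMap V A))
      (X ⧸ ((maximalIdeal V).map (algebraMap V A)) • (⊤ : Submodule A X)) :=
    Module.Finite.of_restrictScalars_finite A _ _
  refine pdlt_of_fibre hA n X hX ?_
  refine pdlt_of_regular_aux n _ ?_ _
  exact_mod_cast (IsRegularLocalRing.spanFinrank_maximalIdeal (R := A ⧸ (maximalIdeal V).map (algebraMap V A))).trans hn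

theorem pdlt_succ (hn : ringKrullDim (A ⧸ (maximalIdeal V).map (algebraMap V A)) = n) (hA : TorsFree V A)
    {X : Type u} [AddCommGroup X] [Module A X] [Module.FinitePresentation A X] : PDLT A X (n + 2) := by
  obtain ⟨k, f, hf⟩ := Module.Finite.exists_fin' A X
  haveI : Module.Finite A (LinearMap.ker f) := Module.Finite.iff_fg.2 (Module.FinitePresentation.fg_ker f hf)
  rw [pdlt_ker_iff f hf]
  exact pdlt_of_torsFree n hn hA
    ((hA.pi k).of_injective ((LinearMap.ker f).subtype.restrictScalars V) Subtype.val_injective)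

theorem pdlt_of_reflexive (hn : ringKrullDim (A ⧸ (maximalIdeal V).map (algebraMap V A)) = n) (hA : TorsFree V A)
    {X : Type u} [AddCommGroup X] [Module A X] [Module.FinitePresentation A X] [Module.IsReflexive A X] :
    PDLT A X (n - 1 + 1) := by
  -- the dual is finitely presented
  obtain ⟨k, f, hf⟩ := Module.Finite.exists_fin' A X
  let f' : Module.Dual A X →ₗ[A] Module.Dual A (Fin k → A) := f.dualMap
  haveI : Module.Finite A (Module.Dual A X) := by
    haveI : Module.Finite A (LinearMap.ker f) := Module.Finite.iff_fg.2 (Module.FinitePresentation.fg_ker f hf)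
    obtain ⟨l, g, hg⟩ := Module.Finite.exists_fin' A (LinearMap.ker f)
    let φ : Module.Dual A (Fin k → A) →ₗ[A] Module.Dual A (Fin l → A) := ((LinearMap.ker f).subtype ∘ₗ g).dualMap
    haveI : Module.Finite A (LinearMap.range φ) := Module.Finite.range φ
    haveI := fp_of_torsFree (V := V) (A := A) (M := LinearMap.range φ) fun c m hc hm => Subtype.ext (LinearMap.ext fun x =>
      hA c (m.1 x) hc (congrArg (fun y : LinearMap.range φ => y.1 x) hm))
    have h1 : (LinearMap.ker φ).FG := by
      rw [← LinearMap.ker_rangeRestrict]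
      exact Module.FinitePresentation.fg_ker (R := A) (N := ↥(LinearMap.range φ)) φ.rangeRestrict φ.surjective_rangeRestrict
    have h2 : LinearMap.range f' = LinearMap.ker φ := by
      refine le_antisymm ?_ fun ψ hψ => ?_
      · rintro _ ⟨χ, rfl⟩
        exact LinearMap.ext fun x => by
          show χ (f (g x).1) = 0
          rw [show f (g x).1 = 0 from (g x).2, map_zero]
      · have hk : LinearMap.ker f ≤ LinearMap.ker ψ := fun x hx => by
          obtain ⟨y, hy⟩ := hg ⟨x, hx⟩
          have := LinearMap.congr_fun hψ y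
          show ψ x = 0
          simpa [φ, hy] using this
        refine ⟨(Submodule.liftQ _ ψ hk) ∘ₗ (f.quotKerEquivOfSurjective hf).symm.toLinearMap, LinearMap.ext fun x => ?_⟩
        show Submodule.liftQ _ ψ hk ((f.quotKerEquivOfSurjective hf).symm (f x)) = ψ x
        rw [show (f.quotKerEquivOfSurjective hf).symm (f x) = Submodule.Quotient.mk x from
          (LinearEquiv.symm_apply_eq _).2 rfl]
        rfl
    rw [← h2] at h1
    haveI := Module.Finite.iff_fg.2 h1
    exact Module.Finite.equiv (LinearEquiv.ofInjective f' (LinearMap.dualMap_injective_of_surjective hf)).symm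
  haveI := fp_of_torsFree (V := V) (A := A) (M := Module.Dual A X) fun c m hc hm => LinearMap.ext fun x =>
    hA c (m x) hc (congrArg (fun y : Module.Dual A X => y x) hm)
  obtain ⟨l, π, hπ⟩ := Module.Finite.exists_fin' A (Module.Dual A X)
  haveI : Module.Finite A (LinearMap.ker π) := Module.Finite.iff_fg.2 (Module.FinitePresentation.fg_ker π hπ)
  obtain ⟨r, ρ, hρ⟩ := Module.Finite.exists_fin' A (LinearMap.ker π)
  let ψ : Module.Dual A (Fin l → A) →ₗ[A] Module.Dual A (Fin r → A) := ((LinearMap.ker π).subtype ∘ₗ ρ).dualMap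
  let ι : X →ₗ[A] Module.Dual A (Fin l → A) := π.dualMap ∘ₗ Module.Dual.eval A X
  have hι : Function.Injective ι := by
    exact (LinearMap.dualMap_injective_of_surjective hπ).comp (Module.bijective_dual_eval A X).1
  have hrange : LinearMap.range ι = LinearMap.ker ψ := by
    refine le_antisymm ?_ fun χ hχ => ?_
    · rintro _ ⟨x, rfl⟩
      exact LinearMap.ext fun y => by
        show π (ρ y).1 x = 0
        rw [show π (ρ y).1 = 0 from (ρ y).2]
        rfl
    · have hk : LinearMap.ker π ≤ LinearMap.ker χ := fun x hx => by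
        obtain ⟨y, hy⟩ := hρ ⟨x, hx⟩
        have := LinearMap.congr_fun hχ y
        show χ x = 0
        simpa [ψ, hy] using this
      obtain ⟨x, hx⟩ := (Module.bijective_dual_eval A X).2
        ((Submodule.liftQ _ χ hk) ∘ₗ (π.quotKerEquivOfSurjective hπ).symm.toLinearMap)
      refine ⟨x, LinearMap.ext fun y => ?_⟩
      show Module.Dual.eval A X x (π y) = χ y
      rw [hx]
      show Submodule.liftQ _ χ hk ((π.quotKerEquivOfSurjective hπ).symm (π y)) = χ y
      rw [show (π.quotKerEquivOfSurjective hπ).symm (π y) = Submodule.Quotient.mk y from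
        (LinearEquiv.symm_apply_eq _).2 rfl]
      rfl
  refine PDLT.of_equiv (M := ↥(LinearMap.ker ψ))
    ((LinearEquiv.ofInjective ι hι).trans (LinearEquiv.ofEq _ _ hrange)).symm ?_
  haveI : Module.Finite A (LinearMap.range ψ) := Module.Finite.range ψ
  haveI := Module.finitePresentation_of_projective A (Module.Dual A (Fin r → A))
  haveI : Module.FinitePresentation A (Module.Dual A (Fin r → A) ⧸ LinearMap.range ψ) :=
    Module.finitePresentation_of_surjective _ (Submodule.mkQ_surjective _)
      (by rw [Submodule.ker_mkQ]; exact Module.Finite.iff_fg.1 inferInstance)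
  exact pdlt_pred ψ n (pdlt_succ n hn hA)

end ValPDLib
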